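import Mathlib.FieldTheory.Finite.GaloisField
import Mathlib.GroupTheory.SemidirectProduct
import Mathlib.GroupTheory.Solvable
import Mathlib.Data.Int.GCD
import Mathlib.Data.ZMod.Basic

/-!
Numbers of solutions of `x ^ n = 1` in semidirect products of elementary abelian groups by abelian
groups, and in direct products.
-/

set_option autoImplicit false

namespace Cfsg.Agent.OrderType

open scoped BigOperators

/-- The number of solutions of `x ^ n = 1`. -/
noncomputable def solCount (X : Type*) [Monoid X] (n : ℕ) : ℕ :=
  Nat.card {x : X // x ^ n = 1}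

theorem solCount_prod (X Y : Type*) [Monoid X] [Monoid Y] (n : ℕ) :
    solCount (X × Y) n = solCount X n * solCount Y n := by
  unfold solCount
  rw [← Nat.card_prod]
  exact Nat.card_congr
    { toFun := fun x => (⟨x.1.1, congrArg Prod.fst x.2⟩, ⟨x.1.2, congrArg Prod.snd x.2⟩)
      invFun := fun p => ⟨(p.1.1, p.2.1), Prod.ext p.1.2 p.2.2⟩
      left_inv := fun x => rfl
      right_inv := fun p => rfl }

theorem solCount_congr {X Y : Type*} [Monoid X] [Monoid Y] (e : X ≃* Y) (n : ℕ) :
    solCount X n = solCount Y n :=
  Nat.card_congr (Equiv.subtypeEquiv e.toEquiv fun x => by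
    rw [MulEquiv.toEquiv_eq_coe, MulEquiv.coe_toEquiv, ← map_pow, map_eq_one_iff e e.injective])

theorem solCount_gcd {X : Type*} [Monoid X] {m : ℕ} (h : ∀ x : X, x ^ m = 1) (n : ℕ) :
    solCount X n = solCount X (Nat.gcd n m) :=
  Nat.card_congr (Equiv.subtypeEquivRight fun x =>
    ⟨fun hx => pow_gcd_eq_one.mpr ⟨hx, h x⟩, fun hx => (pow_gcd_eq_one.mp hx).1⟩)

/-- A semidirect-product component: a module of exponent `r` and order `q` in which every element of the
acting group acts either trivially or without non-trivial fixed points, the trivial case being decided by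
`triv`. -/
structure Comp (C : Type) [CommGroup C] where
  W : Type
  [grp : CommGroup W]
  [fin : Finite W]
  r : ℕ
  prime : r.Prime
  q : ℕ
  card_eq : Nat.card W = q
  exp : ∀ w : W, w ^ r = 1
  ψ : C →* MulAut W
  triv : C → Bool
  triv_spec : ∀ c, triv c = true → ψ c = 1
  fpf : ∀ c, triv c = false → ∀ w, ψ c w = w → w = 1

attribute [instance] Comp.grp Comp.fin

/-- Components exist for every character into `ZMod k` when `k` divides `r ^ d - 1`. -/
theorem exists_comp {A : Type} [AddCommGroup A] {r : ℕ} (hr : r.Prime) (d e : ℕ) (hd : d ≠ 0)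
    {k : ℕ} [NeZero k] (hk : k ∣ r ^ d - 1) (χ : A →+ ZMod k) :
    ∃ B : Comp (Multiplicative A),
      B.r = r ∧ B.q = r ^ (d * e) ∧ ∀ a, B.triv a = decide (χ a.toAdd = 0) := by
  have := Fact.mk hr
  let F := GaloisField r d
  cases nonempty_fintype F
  have hcard : Nat.card Fˣ = r ^ d - 1 := by
    rw [Nat.card_units, GaloisField.card r d hd]
  obtain ⟨g, hg⟩ := IsCyclic.exists_generator (α := Fˣ)
  set u := g ^ (orderOf g / k) with hu
  have hgo : orderOf g = r ^ d - 1 := by
    rw [← hcard]; exact orderOf_eq_card_of_forall_mem_zpowers hg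
  have hpos : orderOf g ≠ 0 := (orderOf_pos g).ne'
  have huo : orderOf u = k := orderOf_pow_orderOf_div hpos (hgo ▸ hk)
  let pw : Multiplicative (ZMod k) →* Fˣ :=
    { toFun := fun a => u ^ (a.toAdd : ZMod k).val
      map_one' := by simp
      map_mul' := fun a b => by
        rw [← pow_add, toAdd_mul, pow_inj_mod, huo, ZMod.val_add, Nat.mod_mod] }
  let φ : Fˣ →* MulAut (Multiplicative (Fin e → F)) :=
    { toFun := fun x =>
        { toFun := fun w => Multiplicative.ofAdd ((x : F) • w.toAdd)
          invFun := fun w => Multiplicative.ofAdd (((x⁻¹ : Fˣ) : F) • w.toAdd)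
          left_inv := fun w => by simp [smul_smul]
          right_inv := fun w => by simp [smul_smul]
          map_mul' := fun v w => by simp [smul_add] }
      map_one' := by ext w; simp
      map_mul' := fun x y => by ext w; simp [smul_smul] }
  refine ⟨{
    W := Multiplicative (Fin e → F)
    r := r
    prime := hr
    q := r ^ (d * e)
    card_eq := ?_
    exp := ?_
    ψ := φ.comp (pw.comp (AddMonoidHom.toMultiplicative χ))
    triv := fun a => decide (χ a.toAdd = 0)
    triv_spec := ?_
    fpf := ?_ }, rfl, rfl, fun a => rfl⟩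
  · rw [Nat.card_congr Multiplicative.toAdd, Nat.card_fun, GaloisField.card r d hd, Nat.card_fin,
      pow_mul]
  · intro w
    apply Multiplicative.toAdd.injective
    rw [toAdd_pow, toAdd_one]
    funext i
    simp [nsmul_eq_mul]
  · intro a ha
    simp only [decide_eq_true_eq] at ha
    simp [pw, ha]
  · intro a ha w hw
    simp only [decide_eq_false_iff_not] at ha
    have hne : pw (AddMonoidHom.toMultiplicative χ a) ≠ 1 := by
      intro h1
      have h2 : orderOf u ∣ (χ a.toAdd).val := orderOf_dvd_of_pow_eq_one (by simpa [pw] using h1)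
      rw [huo] at h2
      exact ha (by
        rw [← ZMod.val_eq_zero]
        exact Nat.eq_zero_of_dvd_of_lt h2 (ZMod.val_lt _))
    set x := pw (AddMonoidHom.toMultiplicative χ a)
    have h1 : ((x : F) - 1) • w.toAdd = 0 := by
      have h2 : (x : F) • w.toAdd = w.toAdd := congrArg Multiplicative.toAdd hw
      rw [sub_smul, h2, one_smul, sub_self]
    refine Multiplicative.toAdd.injective ((smul_eq_zero.mp h1).resolve_left ?_)
    exact sub_ne_zero.mpr fun h => hne (Units.ext h)

variable {C : Type} [CommGroup C] {m : ℕ} (B : Fin m → Comp C)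

/-- The combined action. -/
def actHom : C →* MulAut (∀ j, (B j).W) where
  toFun c := MulEquiv.piCongrRight fun j => (B j).ψ c
  map_one' := by ext v j; simp
  map_mul' a b := by ext v j; simp

/-- The semidirect product of the components by `C`. -/
abbrev Model := SemidirectProduct (∀ j, (B j).W) C (actHom B)

theorem pow_right (x : Model B) (n : ℕ) : (x ^ n).right = x.right ^ n :=
  map_pow SemidirectProduct.rightHom x n

theorem pow_left (x : Model B) (n : ℕ) (j : Fin m) :
    (x ^ n).left j = ∏ i ∈ Finset.range n, (B j).ψ (x.right ^ i) (x.left j) := by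
  induction n with
  | zero => rfl
  | succ n ih =>
    rw [pow_succ, Finset.prod_range_succ, ← ih, SemidirectProduct.mul_left, pow_right]
    rfl

theorem prod_range_eq (j : Fin m) {c : C} {n : ℕ} (hc : c ^ n = 1) (w : (B j).W) :
    (∏ i ∈ Finset.range n, (B j).ψ (c ^ i) w) =
      if (B j).triv c = true then w ^ n else 1 := by
  by_cases h : (B j).triv c = true
  · rw [if_pos h]
    simp [(B j).triv_spec c h]
  · rw [if_neg h]
    apply (B j).fpf c (by simpa using h)
    have h1 := Finset.prod_range_succ' (fun i => (B j).ψ (c ^ i) w) n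
    have h2 := Finset.prod_range_succ (fun i => (B j).ψ (c ^ i) w) n
    rw [h1] at h2
    rw [hc, pow_zero] at h2
    have h3 := mul_right_cancel h2
    conv_rhs => rw [← h3]
    rw [map_prod]
    refine Finset.prod_congr rfl fun i _ => ?_
    rw [pow_succ', map_mul]
    rfl

/-- The formula for the number of solutions. -/
noncomputable def modelCount [Fintype C] [DecidableEq C] (n : ℕ) : ℕ :=
  ∑ c : C, if c ^ n = 1 then
    ∏ j, (if (B j).triv c = true ∧ ¬ (B j).r ∣ n then 1 else (B j).q) else 0

theorem solCount_model [Fintype C] [DecidableEq C] (n : ℕ) :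
    solCount (Model B) n = modelCount B n := by
  classical
  unfold solCount modelCount
  let e : {x : Model B // x ^ n = 1} ≃
      Σ c : C, {v : ∀ j, (B j).W // (⟨v, c⟩ : Model B) ^ n = 1} :=
    { toFun := fun x => ⟨x.1.right, x.1.left, x.2⟩
      invFun := fun s => ⟨⟨s.2.1, s.1⟩, s.2.2⟩
      left_inv := fun x => rfl
      right_inv := fun s => rfl }
  rw [Nat.card_congr e, Nat.card_sigma]
  refine Finset.sum_congr rfl fun c _ => ?_
  split_ifs with hc
  · have hiff : ∀ v : ∀ j, (B j).W, (⟨v, c⟩ : Model B) ^ n = 1 ↔
        ∀ j, (if (B j).triv c = true then v j ^ n else 1) = 1 := by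
      intro v
      constructor
      · intro h j
        have h1 := congrArg (fun x : Model B => x.left j) h
        simp only [pow_left, prod_range_eq B j hc] at h1
        exact h1
      · intro h
        ext1
        · funext j
          rw [pow_left, prod_range_eq B j hc]
          exact h j
        · rw [pow_right]; exact hc
    rw [Nat.card_congr (Equiv.subtypeEquivRight hiff), Nat.card_congr (Equiv.subtypePiEquivPi
      (p := fun j w => (if (B j).triv c = true then w ^ n else 1) = 1)), Nat.card_pi]
    refine Finset.prod_congr rfl fun j _ => ?_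
    by_cases ht : (B j).triv c = true
    · simp only [ht, if_true, true_and]
      by_cases hr : (B j).r ∣ n
      · obtain ⟨k, rfl⟩ := hr
        rw [if_neg (by simp), ← (B j).card_eq]
        exact Nat.card_congr (Equiv.subtypeUnivEquiv fun w => by rw [pow_mul, (B j).exp, one_pow])
      · rw [if_pos hr]
        rw [Nat.card_eq_one_iff_unique]
        refine ⟨⟨fun a b => Subtype.ext ?_⟩, ⟨⟨1, one_pow n⟩⟩⟩
        have key : ∀ w : (B j).W, w ^ n = 1 → w = 1 := fun w hw => by
          have := pow_gcd_eq_one.mpr ⟨(B j).exp w, hw⟩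
          rwa [(B j).prime.coprime_iff_not_dvd.mpr hr, pow_one] at this
        rw [key _ a.2, key _ b.2]
    · simp only [ht, false_and, if_false, Bool.false_eq_true]
      rw [← (B j).card_eq]
      exact Nat.card_congr (Equiv.subtypeUnivEquiv fun w => trivial)
  · have : IsEmpty {v : ∀ j, (B j).W // (⟨v, c⟩ : Model B) ^ n = 1} :=
      ⟨fun v => hc (by rw [← pow_right B ⟨v.1, c⟩ n, v.2]; rfl)⟩
    exact Nat.card_of_isEmpty

instance model_finite [Finite C] : Finite (Model B) :=
  Finite.of_injective (fun x => (x.left, x.right)) fun x y h =>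
    SemidirectProduct.ext (congrArg Prod.fst h) (congrArg Prod.snd h)

theorem model_pow_eq_one {N : ℕ} (hC : ∀ c : C, c ^ N = 1) (hr : ∀ j, (B j).r ∣ N) (x : Model B) :
    x ^ N = 1 := by
  ext1
  · funext j
    rw [pow_left, prod_range_eq B j (hC _)]
    obtain ⟨k, hk⟩ := hr j
    split_ifs
    · rw [hk, pow_mul, (B j).exp, one_pow]; rfl
    · rfl
  · rw [pow_right]; exact hC _

theorem model_solvable : Group.IsSolvable (Model B) := by
  have hV : Group.IsSolvable (∀ j, (B j).W) := Group.isSolvable_of_comm fun a b => mul_comm a b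
  have hC : Group.IsSolvable C := Group.isSolvable_of_comm fun a b => mul_comm a b
  exact Group.isSolvable_of_ker_le_range SemidirectProduct.inl SemidirectProduct.rightHom
    (by rw [SemidirectProduct.range_inl_eq_ker_rightHom])

end Cfsg.Agent.OrderType
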