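import Mathlib.GroupTheory.OrderOfElement
import Mathlib.GroupTheory.Perm.Sign
import Mathlib.GroupTheory.Solvable
import Mathlib.GroupTheory.Commutator.Basic
import Mathlib.Tactic.IntervalCases
import Cfsg.Agent.OrderType.Model

/-!
Order types versus solution counts, and the two exceptional factors: the symmetric group of degree
four and the group of units of three by three matrices over the field of two elements.
-/

set_option autoImplicit false

namespace Cfsg.Agent.OrderType

open scoped BigOperators commutatorElement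

theorem natCard_pow_eq_sum (K : Type*) [Group K] [Finite K] {n : ℕ} (hn : n ≠ 0) :
    Nat.card {x : K // x ^ n = 1} = ∑ m ∈ n.divisors, Nat.card {x : K // orderOf x = m} := by
  classical
  cases nonempty_fintype K
  simp only [Nat.card_eq_fintype_card, Fintype.card_subtype]
  exact ((sum_card_orderOf_eq_card_pow_eq_one (G := K) hn).trans (by congr)).symm

theorem natCard_pow_zero (K : Type*) [Group K] [Finite K] (N : ℕ) (hN : Nat.card K < N) :
    Nat.card {x : K // x ^ 0 = 1} = ∑ m ∈ Finset.range N, Nat.card {x : K // orderOf x = m} := by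
  classical
  cases nonempty_fintype K
  rw [Nat.card_eq_fintype_card] at hN
  simp only [Nat.card_eq_fintype_card, Fintype.card_subtype, pow_zero, Finset.filter_true,
    Finset.card_univ]
  exact Finset.card_eq_sum_card_fiberwise fun x _ =>
    Finset.mem_range.mpr (lt_of_le_of_lt orderOf_le_card_univ hN)

theorem natCard_orderOf_zero (K : Type*) [Group K] [Finite K] :
    Nat.card {x : K // orderOf x = 0} = 0 := by
  have : IsEmpty {x : K // orderOf x = 0} := ⟨fun x => (orderOf_pos x.1).ne' x.2⟩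
  exact Nat.card_of_isEmpty

/-- Equality of the numbers of elements of each order is equality of the solution counts. -/
theorem orderType_iff {G H : Type*} [Group G] [Finite G] [Group H] [Finite H] :
    (∀ n : ℕ, Nat.card {g : G // orderOf g = n} = Nat.card {h : H // orderOf h = n}) ↔
      ∀ n : ℕ, Nat.card {g : G // g ^ n = 1} = Nat.card {h : H // h ^ n = 1} := by
  constructor
  · intro h n
    rcases Nat.eq_zero_or_pos n with rfl | hn
    · rw [natCard_pow_zero G (Nat.card G + Nat.card H + 1) (by omega),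
        natCard_pow_zero H (Nat.card G + Nat.card H + 1) (by omega)]
      exact Finset.sum_congr rfl fun m _ => h m
    · rw [natCard_pow_eq_sum G hn.ne', natCard_pow_eq_sum H hn.ne']
      exact Finset.sum_congr rfl fun m _ => h m
  · intro h n
    induction n using Nat.strong_induction_on with
    | _ n ih =>
      rcases Nat.eq_zero_or_pos n with rfl | hn
      · rw [natCard_orderOf_zero, natCard_orderOf_zero]
      · have hmem : n ∈ n.divisors := Nat.mem_divisors_self n hn.ne'
        have h1 := h n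
        rw [natCard_pow_eq_sum G hn.ne', natCard_pow_eq_sum H hn.ne',
          ← Finset.add_sum_erase _ _ hmem, ← Finset.add_sum_erase _ _ hmem,
          Finset.sum_congr rfl (fun m hm => ih m (lt_of_le_of_ne
            (Nat.divisor_le (Finset.mem_erase.mp hm).2) (Finset.mem_erase.mp hm).1))] at h1
        exact Nat.add_right_cancel h1

section Small

variable {M : Type*} [Monoid M] [DecidableEq M]

/-- `x ^ n = 1`, for an element of order at most four or equal to seven, decided on small powers. -/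
def smallPow (n : ℕ) (x : M) : Bool :=
  x == 1 || (n % 2 == 0 && x * x == 1) || (n % 3 == 0 && x * x * x == 1) ||
    (n % 4 == 0 && x * x * (x * x) == 1) || (n % 7 == 0 && x * x * (x * x) * (x * x * x) == 1)

theorem smallPow_iff (n : ℕ) (x : M)
    (hx : x ^ n = 1 → x ^ 2 = 1 ∨ x ^ 3 = 1 ∨ x ^ 4 = 1 ∨ x ^ 7 = 1) :
    x ^ n = 1 ↔ smallPow n x = true := by
  have e2 : x * x = x ^ 2 := (sq x).symm
  have e3 : x * x * x = x ^ 3 := by rw [pow_succ x 2, sq]
  have e4 : x * x * (x * x) = x ^ 4 := by rw [e2, ← pow_add]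
  have e7 : x * x * (x * x) * (x * x * x) = x ^ 7 := by rw [e4, e3, ← pow_add]
  simp only [smallPow, Bool.or_eq_true, Bool.and_eq_true, beq_iff_eq]
  rw [e7, e4, e3, e2]
  constructor
  · intro hn
    rcases hx hn with h | h | h | h <;> have hg := pow_gcd_eq_one.mpr ⟨hn, h⟩
    · rcases (Nat.dvd_prime Nat.prime_two).mp (Nat.gcd_dvd_right n 2) with hd | hd
      · rw [hd, pow_one] at hg; simp [hg]
      · have : n % 2 = 0 := Nat.mod_eq_zero_of_dvd (hd ▸ Nat.gcd_dvd_left n 2)
        simp [this, h]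
    · rcases (Nat.dvd_prime Nat.prime_three).mp (Nat.gcd_dvd_right n 3) with hd | hd
      · rw [hd, pow_one] at hg; simp [hg]
      · have : n % 3 = 0 := Nat.mod_eq_zero_of_dvd (hd ▸ Nat.gcd_dvd_left n 3)
        simp [this, h]
    · have hd : Nat.gcd n 4 = 1 ∨ Nat.gcd n 4 = 2 ∨ Nat.gcd n 4 = 4 := by
        have h1 := Nat.le_of_dvd (by norm_num) (Nat.gcd_dvd_right n 4)
        have h2 := Nat.gcd_dvd_right n 4
        generalize Nat.gcd n 4 = g at h1 h2
        interval_cases g <;> simp at h2 ⊢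
      rcases hd with hd | hd | hd
      · rw [hd, pow_one] at hg; simp [hg]
      · rw [hd] at hg
        have : n % 2 = 0 := Nat.mod_eq_zero_of_dvd (hd ▸ Nat.gcd_dvd_left n 4)
        simp [this, hg]
      · have : n % 4 = 0 := Nat.mod_eq_zero_of_dvd (hd ▸ Nat.gcd_dvd_left n 4)
        simp [this, h]
    · rcases (Nat.dvd_prime (by decide : Nat.Prime 7)).mp (Nat.gcd_dvd_right n 7) with hd | hd
      · rw [hd, pow_one] at hg; simp [hg]
      · have : n % 7 = 0 := Nat.mod_eq_zero_of_dvd (hd ▸ Nat.gcd_dvd_left n 7)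
        simp [this, h]
  · rintro ((((h | ⟨hn, h⟩) | ⟨hn, h⟩) | ⟨hn, h⟩) | ⟨hn, h⟩)
    · rw [h, one_pow]
    all_goals
      rw [← Nat.div_mul_cancel (Nat.dvd_of_mod_eq_zero hn), mul_comm, pow_mul, h, one_pow]

theorem solCount_small [Fintype M] (n : ℕ)
    (hx : ∀ x : M, x ^ n = 1 → x ^ 2 = 1 ∨ x ^ 3 = 1 ∨ x ^ 4 = 1 ∨ x ^ 7 = 1) :
    solCount M n = (Finset.univ.filter fun x : M => smallPow n x = true).card := by
  classical
  rw [solCount, Nat.card_eq_fintype_card, Fintype.card_subtype]
  exact congrArg Finset.card (Finset.filter_congr fun x _ => smallPow_iff n x (hx x))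

omit [DecidableEq M] in
theorem pow_eightyFour {x : M} (h : x ^ 2 = 1 ∨ x ^ 3 = 1 ∨ x ^ 4 = 1 ∨ x ^ 7 = 1) :
    x ^ 84 = 1 := by
  rcases h with h | h | h | h
  · rw [show 84 = 2 * 42 from rfl, pow_mul, h, one_pow]
  · rw [show 84 = 3 * 28 from rfl, pow_mul, h, one_pow]
  · rw [show 84 = 4 * 21 from rfl, pow_mul, h, one_pow]
  · rw [show 84 = 7 * 12 from rfl, pow_mul, h, one_pow]

end Small

/-- Solution counts in the units are those of the monoid, for positive exponents. -/
theorem solCount_units {M : Type*} [Monoid M] {n : ℕ} (hn : n ≠ 0) :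
    solCount Mˣ n = solCount M n :=
  Nat.card_congr
    { toFun := fun u => ⟨(u.1 : M), by rw [← Units.val_pow_eq_pow_val, u.2, Units.val_one]⟩
      invFun := fun x => ⟨Units.ofPowEqOne x.1 n x.2 hn, Units.ext (by simp)⟩
      left_inv := fun u => Subtype.ext (Units.ext rfl)
      right_inv := fun x => rfl }

/-! ### The symmetric group of degree four -/

theorem s4_small (x : Equiv.Perm (Fin 4)) : x ^ 2 = 1 ∨ x ^ 3 = 1 ∨ x ^ 4 = 1 ∨ x ^ 7 = 1 := by
  revert x
  decide +kernel

/-- The normal four group. -/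
def fourGroup : Subgroup (Equiv.Perm (Fin 4)) where
  carrier := {x | x * x = 1 ∧ Equiv.Perm.sign x = 1}
  one_mem' := ⟨one_mul 1, map_one _⟩
  mul_mem' {a b} := by
    revert a b
    simp only [Set.mem_ofPred_eq]
    decide +kernel
  inv_mem' {a} := by
    revert a
    simp only [Set.mem_ofPred_eq]
    decide +kernel

theorem s4_solvable : Group.IsSolvable (Equiv.Perm (Fin 4)) := by
  refine ⟨⟨3, ?_⟩⟩
  have h1 : derivedSeries (Equiv.Perm (Fin 4)) 1 ≤ (Equiv.Perm.sign (α := Fin 4)).ker := by
    rw [derivedSeries_one]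
    exact Abelianization.commutator_subset_ker _
  have h2 : derivedSeries (Equiv.Perm (Fin 4)) 2 ≤ fourGroup := by
    refine le_trans (Subgroup.commutator_mono h1 h1) (Subgroup.commutator_le.mpr ?_)
    simp only [MonoidHom.mem_ker]
    show ∀ a : Equiv.Perm (Fin 4), Equiv.Perm.sign a = 1 → ∀ b : Equiv.Perm (Fin 4),
      Equiv.Perm.sign b = 1 → ⁅a, b⁆ * ⁅a, b⁆ = 1 ∧ Equiv.Perm.sign ⁅a, b⁆ = 1
    simp only [commutatorElement_def]
    decide +kernel
  refine le_bot_iff.mp (le_trans (Subgroup.commutator_mono h2 h2) (Subgroup.commutator_le.mpr ?_))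
  show ∀ a : Equiv.Perm (Fin 4), a * a = 1 ∧ Equiv.Perm.sign a = 1 → ∀ b : Equiv.Perm (Fin 4),
    b * b = 1 ∧ Equiv.Perm.sign b = 1 → ⁅a, b⁆ = 1
  simp only [commutatorElement_def]
  decide +kernel

/-! ### Three by three matrices over the field of two elements -/

/-- A matrix given by its rows, each encoded by the number with these binary digits. -/
@[ext] structure Mat3 where
  a : Fin 8
  b : Fin 8
  c : Fin 8
deriving DecidableEq

namespace Mat3

/-- Addition of rows. -/
def add8 (x y : Fin 8) : Fin 8 := ⟨(x.val ^^^ y.val) % 8, Nat.mod_lt _ (by norm_num)⟩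

/-- A row times a matrix with rows `a`, `b`, `c`. -/
def row (r a b c : Fin 8) : Fin 8 :=
  add8 (if r.val % 2 = 1 then a else 0)
    (add8 (if r.val / 2 % 2 = 1 then b else 0) (if r.val / 4 = 1 then c else 0))

instance : One Mat3 := ⟨⟨1, 2, 4⟩⟩
instance : Mul Mat3 :=
  ⟨fun x y => ⟨row x.a y.a y.b y.c, row x.b y.a y.b y.c, row x.c y.a y.b y.c⟩⟩

theorem row_add8 : ∀ x y a b c : Fin 8, row (add8 x y) a b c = add8 (row x a b c) (row y a b c) := by
  decide +kernel

theorem row_zero : ∀ a b c : Fin 8, row 0 a b c = 0 := by decide +kernel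

theorem row_ite (p : Prop) [Decidable p] (x a b c : Fin 8) :
    row (if p then x else 0) a b c = if p then row x a b c else 0 := by
  split_ifs
  · rfl
  · exact row_zero a b c

theorem row_assoc (r : Fin 8) (y z : Mat3) :
    row (row r y.a y.b y.c) z.a z.b z.c = row r (y * z).a (y * z).b (y * z).c := by
  conv_lhs => arg 1; unfold row
  rw [row_add8, row_add8, row_ite, row_ite, row_ite]
  rfl

theorem row_one : ∀ r : Fin 8, row r 1 2 4 = r := by decide +kernel

theorem one_row : ∀ a b c : Fin 8, row 1 a b c = a ∧ row 2 a b c = b ∧ row 4 a b c = c := by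
  decide +kernel

instance : Monoid Mat3 where
  mul_assoc x y z := Mat3.ext (row_assoc x.a y z) (row_assoc x.b y z) (row_assoc x.c y z)
  one_mul x := Mat3.ext (one_row x.a x.b x.c).1 (one_row x.a x.b x.c).2.1 (one_row x.a x.b x.c).2.2
  mul_one x := Mat3.ext (row_one x.a) (row_one x.b) (row_one x.c)

/-- Matrices as triples of rows. -/
def tripleEquiv : Fin 8 × Fin 8 × Fin 8 ≃ Mat3 where
  toFun t := ⟨t.1, t.2.1, t.2.2⟩
  invFun x := (x.a, x.b, x.c)
  left_inv _ := rfl
  right_inv _ := rfl

instance : Fintype Mat3 := Fintype.ofEquiv _ tripleEquiv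

theorem dichotomy : ∀ a b c : Fin 8,
    (smallPow 84 (Mat3.mk a b c) = true) ∨ (∃ v : Fin 8, v ≠ 0 ∧ row v a b c = 0) := by
  decide +kernel

theorem small_of_smallPow {x : Mat3} (h : smallPow 84 x = true) :
    x ^ 2 = 1 ∨ x ^ 3 = 1 ∨ x ^ 4 = 1 ∨ x ^ 7 = 1 := by
  simp only [smallPow, Bool.or_eq_true, Bool.and_eq_true, beq_iff_eq] at h
  have e3 : x * x * x = x ^ 3 := by rw [pow_succ x 2, sq]
  have e4 : x * x * (x * x) = x ^ 4 := by rw [← sq x, ← pow_add]
  have e7 : x * x * (x * x) * (x * x * x) = x ^ 7 := by rw [e4, e3, ← pow_add]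
  rw [e7, e4, e3, ← sq] at h
  rcases h with (((h | h) | h) | h) | h
  · left; rw [h, one_pow]
  · exact Or.inl h.2
  · exact Or.inr (Or.inl h.2)
  · exact Or.inr (Or.inr (Or.inl h.2))
  · exact Or.inr (Or.inr (Or.inr h.2))

theorem small_of_mul_eq_one {x y : Mat3} (h : x * y = 1) :
    x ^ 2 = 1 ∨ x ^ 3 = 1 ∨ x ^ 4 = 1 ∨ x ^ 7 = 1 := by
  rcases dichotomy x.a x.b x.c with h1 | ⟨v, hv, hv0⟩
  · exact small_of_smallPow h1
  · exfalso
    have h2 := row_assoc v x y
    rw [hv0, row_zero, h] at h2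
    exact hv ((row_one v).symm.trans h2.symm)

theorem units_pow (u : Mat3ˣ) : u ^ 84 = 1 :=
  Units.ext (by
    rw [Units.val_pow_eq_pow_val, Units.val_one]
    exact pow_eightyFour (small_of_mul_eq_one u.mul_inv))

theorem small_of_pow_eq_one {x : Mat3} {n : ℕ} (hn : n ≠ 0) (h : x ^ n = 1) :
    x ^ 2 = 1 ∨ x ^ 3 = 1 ∨ x ^ 4 = 1 ∨ x ^ 7 = 1 := by
  obtain ⟨m, rfl⟩ := Nat.exists_eq_succ_of_ne_zero hn
  exact small_of_mul_eq_one (y := x ^ m) (by rw [← pow_succ', h])

/-- An elementary matrix as a unit. -/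
def inv2 (x : Mat3) (h : x * x = 1) : Mat3ˣ := ⟨x, x, h, h⟩

theorem units_not_solvable : ¬ Group.IsSolvable Mat3ˣ := by
  let e12 := inv2 ⟨3, 2, 4⟩ (by decide)
  let e13 := inv2 ⟨5, 2, 4⟩ (by decide)
  let e21 := inv2 ⟨1, 3, 4⟩ (by decide)
  let e23 := inv2 ⟨1, 6, 4⟩ (by decide)
  let e31 := inv2 ⟨1, 2, 5⟩ (by decide)
  let e32 := inv2 ⟨1, 2, 6⟩ (by decide)
  rintro ⟨⟨n, hn⟩⟩
  have key : ∀ n, e12 ∈ derivedSeries Mat3ˣ n ∧ e13 ∈ derivedSeries Mat3ˣ n ∧
      e21 ∈ derivedSeries Mat3ˣ n ∧ e23 ∈ derivedSeries Mat3ˣ n ∧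
      e31 ∈ derivedSeries Mat3ˣ n ∧ e32 ∈ derivedSeries Mat3ˣ n := by
    intro n
    induction n with
    | zero => simp
    | succ n ih =>
      obtain ⟨h12, h13, h21, h23, h31, h32⟩ := ih
      rw [derivedSeries_succ]
      refine ⟨?_, ?_, ?_, ?_, ?_, ?_⟩
      · rw [show e12 = ⁅e13, e32⁆ from Units.ext (by decide +kernel)]
        exact Subgroup.commutator_mem_commutator h13 h32
      · rw [show e13 = ⁅e12, e23⁆ from Units.ext (by decide +kernel)]
        exact Subgroup.commutator_mem_commutator h12 h23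
      · rw [show e21 = ⁅e23, e31⁆ from Units.ext (by decide +kernel)]
        exact Subgroup.commutator_mem_commutator h23 h31
      · rw [show e23 = ⁅e21, e13⁆ from Units.ext (by decide +kernel)]
        exact Subgroup.commutator_mem_commutator h21 h13
      · rw [show e31 = ⁅e32, e21⁆ from Units.ext (by decide +kernel)]
        exact Subgroup.commutator_mem_commutator h32 h21
      · rw [show e32 = ⁅e31, e12⁆ from Units.ext (by decide +kernel)]
        exact Subgroup.commutator_mem_commutator h31 h12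
  have h := (key n).1
  rw [hn, Subgroup.mem_bot] at h
  exact absurd (congrArg Units.val h) (by decide +kernel)

end Mat3

end Cfsg.Agent.OrderType
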