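import Mathlib.Algebra.BigOperators.Fin
import Mathlib.NumberTheory.Divisors
import Cfsg.Agent.OrderType.Model
import Cfsg.Agent.OrderType.Count

/-!
A solvable group and a non-solvable group, both of exponent dividing 84, with the same numbers of
solutions of `x ^ n = 1` for every `n`.
-/

set_option autoImplicit false

namespace Cfsg.Agent.OrderType

open scoped BigOperators

/-- Data of one component of a semidirect product: the module has order `r ^ (d * e)` and the acting
group acts through the character `f` into the integers modulo `k`. -/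
structure Spec (A : Type) where
  r : ℕ
  d : ℕ
  e : ℕ
  k : ℕ
  f : A → ℕ

/-- The solution count of the semidirect product given by the data. -/
def specCount {A : Type} [AddMonoid A] [DecidableEq A] [Fintype A] (L : List (Spec A)) (n : ℕ) : ℕ :=
  ∑ a : A, if n • a = 0 then
    (L.map fun s => if s.f a % s.k = 0 ∧ ¬ s.r ∣ n then 1 else s.r ^ (s.d * s.e)).prod else 0

/-- The divisors of 84. -/
def realizedDivisors : List ℕ := [1, 2, 3, 4, 6, 7, 12, 14, 21, 28, 42, 84]

/-- There is a solvable group of exponent dividing 84 with these solution counts. -/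
def Realized (φ : ℕ → ℕ) : Prop :=
  ∃ (X : Type) (_ : Group X) (_ : Finite X),
    Group.IsSolvable X ∧ (∀ x : X, x ^ 84 = 1) ∧ ∀ n ∈ realizedDivisors, solCount X n = φ n

theorem Realized.one : Realized fun _ => 1 := by
  refine ⟨PUnit, inferInstance, inferInstance, inferInstance, fun x => rfl, fun n _ => ?_⟩
  rw [solCount, Nat.card_eq_one_iff_unique]
  exact ⟨inferInstance, ⟨⟨1, one_pow n⟩⟩⟩

theorem Realized.mul {φ ψ : ℕ → ℕ} (h₁ : Realized φ) (h₂ : Realized ψ) :
    Realized fun n => φ n * ψ n := by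
  obtain ⟨X, _, _, sX, eX, cX⟩ := h₁
  obtain ⟨Y, _, _, sY, eY, cY⟩ := h₂
  exact ⟨X × Y, inferInstance, inferInstance, inferInstance,
    fun x => Prod.ext (eX x.1) (eY x.2), fun n hn => by rw [solCount_prod, cX n hn, cY n hn]⟩

theorem Realized.pow {φ : ℕ → ℕ} (h : Realized φ) : ∀ e : ℕ, Realized fun n => φ n ^ e
  | 0 => by simpa using Realized.one
  | e + 1 => by simpa [pow_succ] using (Realized.pow h e).mul h

/-- The solution count of a product of powers. -/
def listCount (L : List ((ℕ → ℕ) × ℕ)) (n : ℕ) : ℕ := (L.map fun t => t.1 n ^ t.2).prod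

theorem Realized.list : ∀ L : List ((ℕ → ℕ) × ℕ), (∀ t ∈ L, Realized t.1) → Realized (listCount L)
  | [], _ => Realized.one
  | t :: L, h => (Realized.pow (h t (List.mem_cons_self ..)) t.2).mul
      (Realized.list L fun s hs => h s (List.mem_cons_of_mem _ hs))

/-- The conditions on the data, all decidable. -/
def Spec.Ok {A : Type} [AddMonoid A] (s : Spec A) : Prop :=
  s.r.Prime ∧ s.d ≠ 0 ∧ s.k ≠ 0 ∧ s.k ∣ s.r ^ s.d - 1 ∧ s.r ∣ 84 ∧
    ∀ a b : A, s.f (a + b) % s.k = (s.f a + s.f b) % s.k

instance {A : Type} [AddMonoid A] [DecidableEq A] [Fintype A] (s : Spec A) : Decidable s.Ok := by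
  unfold Spec.Ok; infer_instance

theorem realized_spec {A : Type} [AddCommGroup A] [DecidableEq A] [Fintype A] (L : List (Spec A))
    (hA : ∀ a : A, (84 : ℕ) • a = 0) (hL : ∀ s ∈ L, s.Ok) : Realized (specCount L) := by
  have key : ∀ j : Fin L.length, ∃ B : Comp (Multiplicative A),
      B.r = L[j].r ∧ B.q = L[j].r ^ (L[j].d * L[j].e) ∧
      ∀ a, B.triv a = decide (L[j].f a.toAdd % L[j].k = 0) := by
    intro j
    obtain ⟨hr, hd, hk0, hk, -, hadd⟩ := hL L[j] (List.getElem_mem _)
    have : NeZero L[j].k := ⟨hk0⟩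
    let χ : A →+ ZMod L[j].k := AddMonoidHom.mk' (fun a => (L[j].f a : ZMod L[j].k)) fun a b => by
      rw [← Nat.cast_add, ZMod.natCast_eq_natCast_iff']
      exact hadd a b
    obtain ⟨B, h1, h2, h3⟩ := exists_comp hr L[j].d L[j].e hd hk χ
    refine ⟨B, h1, h2, fun a => ?_⟩
    rw [h3, decide_eq_decide]
    show (L[j].f a.toAdd : ZMod L[j].k) = 0 ↔ _
    rw [ZMod.natCast_eq_zero_iff, Nat.dvd_iff_mod_eq_zero]
  choose B h1 h2 h3 using key
  refine ⟨Model B, inferInstance, inferInstance, model_solvable B, model_pow_eq_one B ?_ ?_,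
    fun n _ => ?_⟩
  · intro c
    exact Multiplicative.toAdd.injective (by rw [toAdd_pow, toAdd_one]; exact hA c.toAdd)
  · intro j
    rw [h1]
    exact (hL L[j] (List.getElem_mem _)).2.2.2.2.1
  · rw [solCount_model, modelCount, specCount]
    refine Fintype.sum_equiv Multiplicative.toAdd _ _ fun c => ?_
    refine if_congr ?_ ?_ rfl
    · rw [← toAdd_pow]; exact toAdd_eq_zero.symm
    · rw [← Fin.prod_univ_fun_getElem]
      refine Finset.prod_congr rfl fun j _ => ?_
      rw [h1, h2, h3]
      simp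

/-- The solution counts of the symmetric group of degree four. -/
def s4Count (n : ℕ) : ℕ :=
  (Finset.univ.filter fun x : Equiv.Perm (Fin 4) => smallPow n x = true).card

theorem realized_s4 : Realized s4Count :=
  ⟨Equiv.Perm (Fin 4), inferInstance, inferInstance, s4_solvable,
    fun x => pow_eightyFour (s4_small x), fun n _ => solCount_small n fun x _ => s4_small x⟩

/-- The solution counts of the group of invertible three by three matrices over two elements. -/
def matCount (n : ℕ) : ℕ :=
  (Finset.univ.filter fun x : Mat3 => smallPow n x = true).card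

theorem solCount_mat {n : ℕ} (hn : n ≠ 0) : solCount Mat3ˣ n = matCount n := by
  rw [solCount_units hn]
  exact solCount_small n fun x => Mat3.small_of_pow_eq_one hn

/-- Semidirect product data number 0. -/
def spec0 : List (Spec (ZMod 3)) :=
  [⟨2, 2, 1, 3, fun a => a.val⟩,
    ⟨7, 1, 1, 3, fun a => a.val⟩]

/-- Semidirect product data number 1. -/
def spec1 : List (Spec (ZMod 2 × ZMod 2 × ZMod 3)) :=
  [⟨2, 2, 2, 3, fun a => a.2.2.val⟩,
    ⟨3, 1, 1, 2, fun a => a.2.1.val⟩,
    ⟨7, 1, 1, 2, fun a => a.1.val⟩,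
    ⟨7, 1, 1, 2, fun a => a.1.val + a.2.1.val⟩]

/-- Semidirect product data number 2. -/
def spec2 : List (Spec (ZMod 2 × ZMod 2 × ZMod 3)) :=
  [⟨7, 1, 1, 3, fun a => a.2.2.val⟩,
    ⟨7, 1, 1, 2, fun a => a.2.1.val⟩,
    ⟨7, 1, 2, 2, fun a => a.1.val⟩,
    ⟨7, 1, 1, 6, fun a => 3 * a.1.val + 3 * a.2.1.val + 2 * a.2.2.val⟩]

/-- Semidirect product data number 3. -/
def spec3 : List (Spec (ZMod 3 × ZMod 4)) :=
  [⟨7, 2, 1, 4, fun a => a.2.val⟩,
    ⟨2, 2, 2, 3, fun a => a.1.val⟩,
    ⟨7, 1, 1, 6, fun a => 2 * a.1.val + 3 * a.2.val⟩]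

/-- Semidirect product data number 4. -/
def spec4 : List (Spec (ZMod 2 × ZMod 4)) :=
  [⟨7, 1, 1, 2, fun a => a.2.val⟩,
    ⟨3, 1, 1, 2, fun a => a.1.val⟩,
    ⟨7, 1, 1, 2, fun a => a.1.val + a.2.val⟩]

/-- Semidirect product data number 5. -/
def spec5 : List (Spec (ZMod 3 × ZMod 4)) :=
  [⟨7, 1, 1, 2, fun a => a.2.val⟩,
    ⟨2, 2, 2, 3, fun a => a.1.val⟩,
    ⟨7, 1, 1, 6, fun a => 2 * a.1.val + 3 * a.2.val⟩]

/-- Semidirect product data number 6. -/
def spec6 : List (Spec (ZMod 2 × ZMod 3 × ZMod 7)) :=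
  [⟨2, 2, 1, 3, fun a => a.2.1.val⟩,
    ⟨2, 6, 1, 21, fun a => 7 * a.2.1.val + 3 * a.2.2.val⟩,
    ⟨7, 1, 2, 2, fun a => a.1.val⟩]

/-- Semidirect product data number 7. -/
def spec7 : List (Spec (ZMod 7)) :=
  [⟨2, 3, 2, 7, fun a => a.val⟩]

/-- Semidirect product data number 8. -/
def spec8 : List (Spec (ZMod 2 × ZMod 7)) :=
  [⟨2, 3, 1, 7, fun a => a.2.val⟩]

/-- Semidirect product data number 10. -/
def spec10 : List (Spec (ZMod 2 × ZMod 2)) :=
  [⟨7, 1, 2, 2, fun a => a.2.val⟩]

/-- Semidirect product data number 11. -/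
def spec11 : List (Spec (ZMod 2 × ZMod 3)) :=
  [⟨7, 1, 1, 2, fun a => a.1.val⟩,
    ⟨7, 1, 1, 6, fun a => 3 * a.1.val + 2 * a.2.val⟩]

/-- Semidirect product data number 12. -/
def spec12 : List (Spec (ZMod 2 × ZMod 3)) :=
  [⟨7, 1, 1, 6, fun a => 3 * a.1.val + 2 * a.2.val⟩]

/-- Semidirect product data number 13. -/
def spec13 : List (Spec (ZMod 2 × ZMod 4)) :=
  [⟨3, 1, 2, 2, fun a => a.1.val⟩,
    ⟨7, 1, 1, 2, fun a => a.1.val + a.2.val⟩]

/-- Semidirect product data number 14. -/
def spec14 : List (Spec (ZMod 3)) :=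
  []

/-- Semidirect product data number 15. -/
def spec15 : List (Spec (ZMod 2)) :=
  [⟨3, 1, 2, 2, fun a => a.val⟩]

/-- Semidirect product data number 16. -/
def spec16 : List (Spec (ZMod 4 × ZMod 4)) :=
  [⟨7, 1, 1, 2, fun a => a.2.val⟩,
    ⟨7, 1, 2, 2, fun a => a.1.val⟩]

/-- Semidirect product data number 17. -/
def spec17 : List (Spec (ZMod 7)) :=
  []

/-- Semidirect product data number 18. -/
def spec18 : List (Spec (ZMod 4)) :=
  []

/-- Semidirect product data number 19. -/
def spec19 : List (Spec (ZMod 2)) :=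
  []

/-- Semidirect product data number 20. -/
def spec20 : List (Spec (ZMod 2 × ZMod 2)) :=
  [⟨7, 1, 1, 2, fun a => a.2.val⟩]

/-- Semidirect product data number 21. -/
def spec21 : List (Spec (ZMod 2 × ZMod 3)) :=
  [⟨7, 1, 1, 3, fun a => a.2.val⟩,
    ⟨7, 1, 1, 2, fun a => a.1.val⟩]

/-- The factors of the solvable group. -/
def posTerms : List ((ℕ → ℕ) × ℕ) :=
  [(specCount spec0, 12),
    (specCount spec2, 6),
    (specCount spec4, 6),
    (specCount spec5, 6),
    (specCount spec7, 6),
    (specCount spec8, 6),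
    (s4Count, 6),
    (specCount spec10, 23),
    (specCount spec12, 54),
    (specCount spec15, 12),
    (specCount spec17, 4),
    (specCount spec18, 12),
    (specCount spec20, 1)]

/-- The solvable factors of the group that is not solvable. -/
def negTerms : List ((ℕ → ℕ) × ℕ) :=
  [(specCount spec1, 6),
    (specCount spec3, 6),
    (specCount spec6, 6),
    (specCount spec11, 20),
    (specCount spec13, 12),
    (specCount spec14, 6),
    (specCount spec16, 3),
    (specCount spec19, 60),
    (specCount spec21, 34)]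

set_option maxRecDepth 10000 in
theorem realized_pos : Realized (listCount posTerms) := by
  apply Realized.list
  simp only [posTerms, List.mem_cons, List.not_mem_nil, or_false, forall_eq_or_imp, forall_eq]
  refine ⟨?_, ?_, ?_, ?_, ?_, ?_, realized_s4, ?_, ?_, ?_, ?_, ?_, ?_⟩ <;>
    exact realized_spec _ (by decide +kernel) (by decide +kernel)

set_option maxRecDepth 10000 in
theorem realized_neg : Realized (listCount negTerms) := by
  apply Realized.list
  simp only [negTerms, List.mem_cons, List.not_mem_nil, or_false, forall_eq_or_imp, forall_eq]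
  refine ⟨?_, ?_, ?_, ?_, ?_, ?_, ?_, ?_, ?_⟩ <;>
    exact realized_spec _ (by decide +kernel) (by decide +kernel)

theorem counts_eq : ∀ n ∈ realizedDivisors, listCount posTerms n = matCount n ^ 6 * listCount negTerms n := by
  decide +kernel

theorem realizedDivisors_pos : ∀ n ∈ realizedDivisors, n ≠ 0 := by decide

theorem mem_realizedDivisors {d : ℕ} (h : d ∣ 84) : d ∈ realizedDivisors := by
  have h1 : ∀ m ∈ Nat.divisors 84, m ∈ realizedDivisors := by decide +kernel
  exact h1 d (Nat.mem_divisors.mpr ⟨h, by norm_num⟩)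

theorem exists_solvable_nonsolvable_same_orderType :
    ∃ (G : Type) (_ : Group G) (_ : Finite G) (H : Type) (_ : Group H) (_ : Finite H),
      Group.IsSolvable G ∧ ¬ Group.IsSolvable H ∧
        ∀ n : ℕ, Nat.card {g : G // orderOf g = n} = Nat.card {h : H // orderOf h = n} := by
  obtain ⟨X, gX, fX, sX, eX, cX⟩ := realized_pos
  obtain ⟨Y, gY, fY, -, eY, cY⟩ := realized_neg
  let U := Mat3ˣ
  have : Finite U := Finite.of_injective (fun u : Mat3ˣ => (u : Mat3)) fun u v h => Units.ext h
  refine ⟨X, gX, fX, U × (U × U × U) × (U × U) × Y, inferInstance, inferInstance, sX, fun hs => ?_,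
    orderType_iff.mpr fun n => ?_⟩
  · exact Mat3.units_not_solvable
      (Group.isSolvable_of_surjective (f := MonoidHom.fst U ((U × U × U) × (U × U) × Y))
        (fun u => ⟨(u, 1), rfl⟩))
  · have eU : ∀ u : U, u ^ 84 = 1 := Mat3.units_pow
    have eH : ∀ h : U × (U × U × U) × (U × U) × Y, h ^ 84 = 1 := fun h =>
      Prod.ext (eU _) (Prod.ext (Prod.ext (eU _) (Prod.ext (eU _) (eU _)))
        (Prod.ext (Prod.ext (eU _) (eU _)) (eY _)))
    show solCount X n = solCount (U × (U × U × U) × (U × U) × Y) n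
    rw [solCount_gcd eX n, solCount_gcd eH n]
    have hm := mem_realizedDivisors (Nat.gcd_dvd_right n 84)
    simp only [solCount_prod, solCount_mat (realizedDivisors_pos _ hm), cX _ hm, cY _ hm,
      counts_eq _ hm, U]
    ring

end Cfsg.Agent.OrderType
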